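import Cfsg.Agent.Lib.MinSquare.PermSummand
import Cfsg.Agent.Lib.FirstPower.SmallReduction

/-!
# Fixed vectors of small lattices and a TI Sylow subgroup

`P` is a TI Sylow `p`-subgroup and `H` contains its normaliser.  A lattice of rank at most `|P|`
with a vector fixed by the whole group has no further vectors fixed by `H`: such a vector is a
trace from `P` of the orbit of `P` on the other cosets of `H`, hence spans the fixed points of a
free module of rank one modulo the maximal ideal.
-/

set_option autoImplicit false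
set_option linter.style.haveILetI false

namespace Cfsg.Agent.Lib.TIFixed.Basic

open scoped Pointwise

universe u v w

section CharP

variable {k : Type w} [Field k] {p : ℕ} [Fact p.Prime] {P : Type u} [Group P] [Fintype P]
  {V : Type v} [AddCommGroup V] [Module k V]

/-- An orbit with non-zero sum under a `p`-group in characteristic `p` is independent. -/
theorem linearIndependent_orbit (hp0 : (p : k) = 0) (hP : IsPGroup p P) (ρ : P →* Module.End k V)
    {w : V} (hw : ∑ u, ρ u w ≠ 0) : LinearIndependent k fun u => ρ u w := by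
  classical
  let φ : (P → k) →ₗ[k] V := Fintype.linearCombination k fun u => ρ u w
  have hφ : ∀ f, φ f = ∑ u, f u • ρ u w := fun f => rfl
  have hker : LinearMap.ker φ = ⊥ := by
    by_contra hne
    obtain ⟨f, hf, hf0, hfix⟩ := MinSquare.PermSummand.exists_fixed_vector hp0 hP
      (MinSquare.PermSummand.funRep k P P) hne fun g f hf => by
        rw [LinearMap.mem_ker, hφ] at hf ⊢
        have e : ∑ u, MinSquare.PermSummand.funRep k P P g f u • ρ u w =
            ρ g (∑ u, f u • ρ u w) := by
          rw [map_sum]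
          refine (Fintype.sum_equiv (Equiv.mulLeft g) _ _ fun u => ?_).symm
          simp [MinSquare.PermSummand.funRep_apply, smul_eq_mul]
        rw [e, hf, map_zero]
    have hc : ∀ u, f u = f 1 := fun u => by
      have h := congrFun (hfix u) u
      rwa [MinSquare.PermSummand.funRep_apply, smul_eq_mul, inv_mul_cancel, eq_comm] at h
    rw [LinearMap.mem_ker, hφ] at hf
    simp only [hc, ← Finset.smul_sum] at hf
    exact hf0 (funext fun u => by rw [hc u]; exact (smul_eq_zero.1 hf).resolve_right hw)
  refine Fintype.linearIndependent_iff.2 fun g hg i => ?_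
  have : g ∈ LinearMap.ker φ := by rw [LinearMap.mem_ker, hφ]; exact hg
  rw [hker, Submodule.mem_bot] at this
  exact congrFun this i

/-- In a module of dimension at most `|P|` the fixed points are then the multiples of the sum. -/
theorem exists_smul_of_fixed [FiniteDimensional k V] (hp0 : (p : k) = 0) (hP : IsPGroup p P)
    (ρ : P →* Module.End k V) {w : V} (hw : ∑ u, ρ u w ≠ 0)
    (hd : Module.finrank k V ≤ Fintype.card P) {f : V} (hf : ∀ u, ρ u f = f) :
    ∃ c : k, f = c • ∑ u, ρ u w := by
  classical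
  have hli := linearIndependent_orbit hp0 hP ρ hw
  have htop : Submodule.span k (Set.range fun u => ρ u w) = ⊤ := by
    refine Submodule.eq_top_of_finrank_eq (le_antisymm (Submodule.finrank_le _) ?_)
    rw [finrank_span_eq_card hli]
    exact hd
  obtain ⟨c, hc⟩ := (Submodule.mem_span_range_iff_exists_fun k).1
    (htop ▸ Submodule.mem_top : f ∈ Submodule.span k (Set.range fun u => ρ u w))
  refine ⟨c 1, ?_⟩
  have hconst : ∀ a, c a = c 1 := by
    intro a
    have h := hf a
    rw [← hc, map_sum] at h
    simp only [map_smul] at h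
    rw [← Equiv.sum_comp (Equiv.mulLeft a⁻¹) (fun u => c u • ρ a (ρ u w))] at h
    simp only [Equiv.coe_mulLeft, ← Module.End.mul_apply, ← map_mul, mul_inv_cancel_left] at h
    have h0 : ∑ u, (c (a⁻¹ * u) - c u) • ρ u w = 0 := by
      simp only [sub_smul, Finset.sum_sub_distrib, h, sub_self]
    have := Fintype.linearIndependent_iff.1 hli _ h0 a
    rw [inv_mul_cancel, sub_eq_zero] at this
    exact this.symm
  rw [← hc, Finset.smul_sum]
  exact Finset.sum_congr rfl fun u _ => by rw [hconst u]

end CharP

section TI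

variable {G : Type u} [Group G] {p : ℕ} [hp : Fact p.Prime] {P : Sylow p G}
  {H : Subgroup G}

/-- Off the coset of `H` the Sylow subgroup moves every coset of `H` freely. -/
theorem eq_one_of_smul_eq [Finite G]
    (hTI : ∀ g : G, g ∉ Subgroup.normalizer ((P : Subgroup G) : Set G) →
      (P : Subgroup G) ⊓ (MulAut.conj g • (P : Subgroup G)) = ⊥)
    (hH : Subgroup.normalizer ((P : Subgroup G) : Set G) ≤ H) {u g : G}
    (hu : u ∈ (P : Subgroup G)) (hg : g ∉ H) (hfix : g⁻¹ * u * g ∈ H) : u = 1 := by
  have hPH : (P : Subgroup G) ≤ H := Subgroup.le_normalizer.trans hH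
  have hzp : IsPGroup p (Subgroup.zpowers (⟨g⁻¹ * u * g, hfix⟩ : H)) := by
    obtain ⟨k, hk⟩ := (IsPGroup.iff_orderOf.1 P.2) ⟨u, hu⟩
    refine IsPGroup.iff_card.2 ?_
    rw [Nat.card_zpowers]
    refine ⟨k, ?_⟩
    rw [← Subgroup.orderOf_coe]
    show orderOf (g⁻¹ * u * g) = p ^ k
    rw [← hk, ← Subgroup.orderOf_coe]
    exact orderOf_injective (MulAut.conj g⁻¹).toMonoidHom (MulAut.conj g⁻¹).injective u |>.symm.trans
      (by simp) |>.symm
  obtain ⟨Q, hQ⟩ := hzp.exists_le_sylow
  obtain ⟨h, hh⟩ := MulAction.exists_smul_eq H (P.subtype hPH) Q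
  have hm : (⟨g⁻¹ * u * g, hfix⟩ : H) ∈ h • P.subtype hPH := by
    rw [hh]; exact hQ (Subgroup.mem_zpowers _)
  have hm' : (⟨g⁻¹ * u * g, hfix⟩ : H) ∈ MulAut.conj h • ((P : Subgroup G).subgroupOf H) := hm
  rw [Subgroup.mem_pointwise_smul_iff_inv_smul_mem, Subgroup.mem_subgroupOf] at hm'
  simp only [MulAut.smul_def, MulAut.conj_inv_apply, Subgroup.coe_mul, Subgroup.coe_inv] at hm'
  have hn : g * (h : G) ∉ Subgroup.normalizer ((P : Subgroup G) : Set G) := fun hn => hg (by
    simpa using H.mul_mem (hH hn) (H.inv_mem h.2))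
  have hb : u ∈ (P : Subgroup G) ⊓ (MulAut.conj (g * (h : G)) • (P : Subgroup G)) := by
    refine ⟨hu, ?_⟩
    show u ∈ MulAut.conj (g * (h : G)) • (P : Subgroup G)
    rw [Subgroup.mem_pointwise_smul_iff_inv_smul_mem]
    simpa [MulAut.smul_def, mul_assoc] using hm'
  rw [hTI _ hn] at hb
  exact Subgroup.mem_bot.1 hb

variable [Fintype G] {M : Ideal Cfsg.AlgInt} [M.IsMaximal] {n : ℕ}

open Cfsg.Agent.Lib.Blocks

open scoped Classical in
/-- The matrix identity: averaging over `H` is averaging over `G`. -/
theorem card_smul_sum_eq [Fintype H]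
    (hTI : ∀ g : G, g ∉ Subgroup.normalizer ((P : Subgroup G) : Set G) →
      (P : Subgroup G) ⊓ (MulAut.conj g • (P : Subgroup G)) = ⊥)
    (hH : Subgroup.normalizer ((P : Subgroup G) : Set G) ≤ H) (hM : Cfsg.IsPModular p M)
    (T : G →* Matrix (Fin n) (Fin n) (localRing M)) (hn : n ≤ Nat.card (P : Subgroup G))
    (hfix : ∑ g, T g ≠ 0) :
    (Nat.card G : localRing M) • ∑ h : H, T h = (Nat.card H : localRing M) • ∑ g, T g := by
  haveI := preValuationRing_localRing hM
  haveI := charP_residue hM
  letI : Field (Cfsg.AlgInt ⧸ M) := Ideal.Quotient.field M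
  have hPH : (P : Subgroup G) ≤ H := Subgroup.le_normalizer.trans hH
  set SH : Matrix (Fin n) (Fin n) (localRing M) := ∑ h : H, T h with hSH
  set SG : Matrix (Fin n) (Fin n) (localRing M) := ∑ g, T g with hSG
  have hTSH : ∀ a ∈ H, T a * SH = SH := fun a ha => by
    rw [hSH, Finset.mul_sum]
    exact Fintype.sum_equiv (Equiv.mulLeft (⟨a, ha⟩ : H)) _ _ fun x => by simp
  have hTSG : ∀ a, T a * SG = SG := fun a => by
    rw [hSG, Finset.mul_sum]
    exact Fintype.sum_equiv (Equiv.mulLeft a) _ _ fun x => by simp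
  have hSGT : ∀ a, SG * T a = SG := fun a => by
    rw [hSG, Finset.sum_mul]
    exact Fintype.sum_equiv (Equiv.mulRight a) _ _ fun x => by simp
  have hGH : SG * SH = (Nat.card H : localRing M) • SG := by
    rw [hSH, Finset.mul_sum]
    simp only [hSGT, Finset.sum_const, Finset.card_univ, Nat.card_eq_fintype_card,
      ← Nat.cast_smul_eq_nsmul (localRing M)]
  have hGG : SG * SG = (Nat.card G : localRing M) • SG := by
    nth_rewrite 2 [hSG]
    rw [Finset.mul_sum]
    simp only [hSGT, Finset.sum_const, Finset.card_univ, Nat.card_eq_fintype_card,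
      ← Nat.cast_smul_eq_nsmul (localRing M)]
  have hHG : SH * SG = (Nat.card H : localRing M) • SG := by
    rw [hSH, Finset.sum_mul]
    simp only [hTSG, Finset.sum_const, Finset.card_univ, Nat.card_eq_fintype_card,
      ← Nat.cast_smul_eq_nsmul (localRing M)]
  by_contra hne
  set A := (Nat.card G : localRing M) • SH - (Nat.card H : localRing M) • SG with hA
  have hA0 : A ≠ 0 := sub_ne_zero.2 hne
  have hA1 : ∀ a ∈ H, T a * A = A := fun a ha => by
    rw [hA, mul_sub, mul_smul_comm, mul_smul_comm, hTSH a ha, hTSG]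
  have hA2 : SG * A = 0 := by
    rw [hA, mul_sub, mul_smul_comm, mul_smul_comm, hGH, hGG, smul_smul, smul_smul, mul_comm,
      sub_self]
  -- a primitive column
  have prim : ∀ B : Matrix (Fin n) (Fin n) (localRing M), B ≠ 0 →
      ∃ (c : localRing M) (v : Fin n → localRing M) (i : Fin n) (j : Fin n),
        c ≠ 0 ∧ v i = 1 ∧ ∀ l, B l j = c * v l := by
    intro B hB
    obtain ⟨i₀, j, hij⟩ : ∃ i j, B i j ≠ 0 := by
      by_contra hno
      push Not at hno
      exact hB (Matrix.ext fun i j => hno i j)
    obtain ⟨i, -, hi⟩ := FirstPower.SmallReduction.exists_dvd_least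
      (Finset.univ : Finset (Fin n)) ⟨i₀, Finset.mem_univ _⟩ (fun l => B l j)
    choose v hv using fun l => hi l (Finset.mem_univ l)
    have hc : B i j ≠ 0 := fun h0 => hij (by rw [hv i₀, h0, zero_mul])
    refine ⟨B i j, Function.update v i 1, i, j, hc, Function.update_self _ _ _, fun l => ?_⟩
    by_cases hl : l = i
    · rw [hl, Function.update_self, mul_one]
    · rw [Function.update_of_ne hl, hv l]
  have mulcol : ∀ (X B : Matrix (Fin n) (Fin n) (localRing M)) (c : localRing M) (v : Fin n → localRing M)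
      (j : Fin n), (∀ l, B l j = c * v l) → ∀ l, (X * B) l j = c * (X.mulVec v) l := by
    intro X B c v j h l
    rw [Matrix.mul_apply, Matrix.mulVec, dotProduct, Finset.mul_sum]
    exact Finset.sum_congr rfl fun m _ => by rw [h m]; ring
  obtain ⟨c, v, i, j, hc, hvi, hcol⟩ := prim A hA0
  obtain ⟨d, f, i', j', hd, hfi, hcol'⟩ := prim SG hfix
  have hvH : ∀ a ∈ H, (T a).mulVec v = v := fun a ha => funext fun l => by
    have := mulcol (T a) A c v j hcol l
    rw [hA1 a ha, hcol l] at this
    exact (mul_left_cancel₀ hc this).symm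
  have hfG : ∀ a, (T a).mulVec f = f := fun a => funext fun l => by
    have := mulcol (T a) SG d f j' hcol' l
    rw [hTSG a, hcol' l] at this
    exact (mul_left_cancel₀ hd this).symm
  have hvG : SG.mulVec v = 0 := funext fun l => by
    have := mulcol SG A c v j hcol l
    rw [hA2] at this
    exact (mul_eq_zero.1 this.symm).resolve_left hc
  -- the cosets
  let F : G ⧸ H → (Fin n → localRing M) := fun q => (T q.out).mulVec v
  have hF : ∀ g : G, F (g : G ⧸ H) = (T g).mulVec v := by
    intro g
    obtain ⟨a, ha⟩ := QuotientGroup.mk_out_eq_mul H g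
    show (T (Quotient.out (g : G ⧸ H))).mulVec v = _
    rw [ha, map_mul, ← Matrix.mulVec_mulVec, hvH a a.2]
  have hFu : ∀ (u : G) (q : G ⧸ H), F (u • q) = (T u).mulVec (F q) := by
    intro u q
    induction q using QuotientGroup.induction_on with
    | H g =>
      rw [MulAction.Quotient.smul_mk, hF, hF, smul_eq_mul, map_mul, Matrix.mulVec_mulVec]
  have hFsum : ∑ q : G ⧸ H, F q = 0 := by
    have h1 : SG.mulVec v = (Nat.card H : localRing M) • ∑ q : G ⧸ H, F q := by
      rw [hSG, Matrix.sum_mulVec, ← Finset.sum_fiberwise (Finset.univ : Finset G)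
        (fun g => (g : G ⧸ H)), Finset.smul_sum]
      refine Finset.sum_congr rfl fun q _ => ?_
      have hcst : ∀ g ∈ Finset.univ.filter (fun g : G => (g : G ⧸ H) = q),
          (T g).mulVec v = F q := fun g hg => by rw [← hF g, (Finset.mem_filter.1 hg).2]
      rw [Finset.sum_congr rfl hcst, Finset.sum_const, ← Nat.cast_smul_eq_nsmul (localRing M)]
      congr 2
      induction q using QuotientGroup.induction_on with
      | H g =>
        rw [Nat.card_eq_fintype_card, ← Fintype.card_subtype]
        exact Fintype.card_congr ⟨fun x => ⟨g⁻¹ * x.1, QuotientGroup.eq.1 x.2.symm⟩,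
          fun a => ⟨g * a, (QuotientGroup.eq.2 (by simp)).symm⟩,
          fun x => by simp, fun a => by simp⟩
    rw [hvG] at h1
    exact (smul_eq_zero.1 h1.symm).resolve_left (Nat.cast_ne_zero.2 Nat.card_pos.ne')
  -- orbits of `P` off the coset of `H`
  let q₀ : G ⧸ H := ((1 : G) : G ⧸ H)
  have hq₀ : ∀ u : (P : Subgroup G), u • q₀ = q₀ := fun u => by
    show ((u : G) • ((1 : G) : G ⧸ H)) = _
    rw [MulAction.Quotient.smul_mk, smul_eq_mul, mul_one, QuotientGroup.eq, mul_one]
    exact H.inv_mem (hPH u.2)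
  have hfree : ∀ (u : (P : Subgroup G)) (q : G ⧸ H), q ≠ q₀ → u • q = q → u = 1 := by
    intro u q hq he
    induction q using QuotientGroup.induction_on with
    | H g =>
      have hg : g ∉ H := fun hg => hq (by
        rw [QuotientGroup.eq, mul_one]; exact H.inv_mem hg)
      have he' : (((u : G) * g : G) : G ⧸ H) = (g : G ⧸ H) := he
      rw [QuotientGroup.eq] at he'
      have h1 : g⁻¹ * (u : G) * g ∈ H := by
        have := H.inv_mem he'
        simpa [mul_assoc] using this
      exact Subtype.ext (eq_one_of_smul_eq hTI hH u.2 hg h1)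
  let D := Finset.univ.filter fun q : G ⧸ H => q ≠ q₀ ∧
    (Quotient.mk (MulAction.orbitRel (P : Subgroup G) (G ⧸ H)) q).out = q
  have hbij : ∀ {β : Type} [AddCommMonoid β] (φ : G ⧸ H → β),
      ∑ q ∈ Finset.univ.erase q₀, φ q = ∑ u : (P : Subgroup G), ∑ q ∈ D, φ (u • q) := by
    intro β _ φ
    rw [← Finset.sum_product' (Finset.univ : Finset (P : Subgroup G)) D (fun u q => φ (u • q))]
    refine (Finset.sum_bij (fun z _ => z.1 • z.2) ?_ ?_ ?_ fun z _ => rfl).symm
    · rintro ⟨u, q⟩ hz
      simp only [Finset.mem_product, D, Finset.mem_filter] at hz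
      refine Finset.mem_erase.2 ⟨fun e => hz.2.2.1 ?_, Finset.mem_univ _⟩
      simp only at e
      rw [← inv_smul_smul u q, e, hq₀]
    · rintro ⟨u, q⟩ hz ⟨u', q'⟩ hz' e
      simp only [Finset.mem_product, D, Finset.mem_filter] at hz hz'
      simp only at e
      have hr : Quotient.mk (MulAction.orbitRel (P : Subgroup G) (G ⧸ H)) q =
          Quotient.mk _ q' := Quotient.sound ⟨u⁻¹ * u', by
            show (u⁻¹ * u') • q' = q
            rw [mul_smul, ← e, inv_smul_smul]⟩
      have hqq : q = q' := by rw [← hz.2.2.2, hr, hz'.2.2.2]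
      subst hqq
      have := hfree (u'⁻¹ * u) q hz.2.2.1 (by rw [mul_smul, e, inv_smul_smul])
      rw [inv_mul_eq_one] at this
      rw [this]
    · intro q hq
      obtain ⟨u, hu⟩ : (Quotient.mk (MulAction.orbitRel (P : Subgroup G) (G ⧸ H)) q).out ∈
          MulAction.orbit (P : Subgroup G) q := MulAction.orbitRel_apply.1 (Quotient.exact
            (Quotient.out_eq (Quotient.mk (MulAction.orbitRel (P : Subgroup G) (G ⧸ H)) q)))
      refine ⟨(u⁻¹, u • q), ?_, inv_smul_smul u q⟩
      simp only [Finset.mem_product, D, Finset.mem_filter]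
      refine ⟨Finset.mem_univ _, Finset.mem_univ _, fun e => (Finset.mem_erase.1 hq).1 ?_, ?_⟩
      · rw [← inv_smul_smul u q, e, hq₀]
      · have : Quotient.mk (MulAction.orbitRel (P : Subgroup G) (G ⧸ H)) (u • q) =
            Quotient.mk _ q := Quotient.sound ⟨u, rfl⟩
        rw [this]
        exact hu.symm
  set w : Fin n → localRing M := ∑ q ∈ D, F q with hw
  have htr : v = -∑ u : (P : Subgroup G), (T u).mulVec w := by
    have h0 : F q₀ + ∑ q ∈ Finset.univ.erase q₀, F q = 0 := by
      rw [Finset.add_sum_erase _ _ (Finset.mem_univ q₀)]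
      exact hFsum
    rw [hbij F, hF 1, map_one, Matrix.one_mulVec] at h0
    rw [eq_neg_iff_add_eq_zero, ← h0]
    congr 1
    refine Finset.sum_congr rfl fun u _ => ?_
    rw [hw, Matrix.mulVec_sum]
    exact Finset.sum_congr rfl fun q _ => (hFu u q).symm
  have hidx : ∃ m : ℕ, Nat.card (G ⧸ H) = 1 + p * m := by
    have h2 := hbij (fun _ => (1 : ℕ))
    simp only [Finset.sum_const, Finset.card_univ, smul_eq_mul, mul_one] at h2
    rw [Finset.card_erase_of_mem (Finset.mem_univ _), Finset.card_univ] at h2
    obtain ⟨k, hk⟩ := P.2.exists_card_eq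
    have hk0 : k ≠ 0 ∨ n ≤ 1 := by
      by_cases h : k = 0
      · right; rw [hk, h, pow_zero] at hn; exact hn
      · left; exact h
    rcases hk0 with hk0 | hn1
    · obtain ⟨k', rfl⟩ := Nat.exists_eq_succ_of_ne_zero hk0
      refine ⟨p ^ k' * D.card, ?_⟩
      rw [← Fintype.card_eq_nat_card] at hk
      rw [Nat.card_eq_fintype_card, ← mul_assoc, ← pow_succ', ← hk, ← h2]
      have : 0 < Fintype.card (G ⧸ H) := Fintype.card_pos
      omega
    · -- rank at most one
      exfalso
      have hli : i = i' := Fin.ext (by omega)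
      have hvf : v = f := funext fun l => by
        have : l = i := Fin.ext (by omega)
        rw [this, hvi, hli, hfi]
      have := congrFun hvG i
      rw [hSG, Matrix.sum_mulVec] at this
      simp only [hvf, hfG, Finset.sum_const, Finset.card_univ, nsmul_eq_mul] at this
      rw [Pi.mul_apply, hli, hfi, mul_one, Pi.zero_apply] at this
      exact (Nat.cast_ne_zero (R := localRing M)).2 (Fintype.card_ne_zero (α := G)) (by simpa using this)
  -- reduction modulo `M`
  set r := residue M with hr
  let ρ : (P : Subgroup G) →* Module.End (Cfsg.AlgInt ⧸ M) (Fin n → Cfsg.AlgInt ⧸ M) :=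
    (Matrix.toLinAlgEquiv'.toMulEquiv.toMonoidHom).comp
      ((r.mapMatrix.toMonoidHom).comp (T.comp (P : Subgroup G).subtype))
  have hρ : ∀ (u : (P : Subgroup G)) (x : Fin n → localRing M),
      ρ u (fun l => r (x l)) = fun l => r ((T u).mulVec x l) := by
    intro u x
    funext l
    show ((r.mapMatrix (T u)).mulVec fun l => r (x l)) l = _
    simp [Matrix.mulVec, dotProduct, map_sum, map_mul]
  set wb : Fin n → Cfsg.AlgInt ⧸ M := fun l => r (w l)
  have hsum : ∑ u : (P : Subgroup G), ρ u wb = fun l => -r (v l) := by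
    funext l
    rw [Finset.sum_apply]
    have h := congrArg (fun z : Fin n → localRing M => r (z l)) htr
    simp only [Pi.neg_apply, map_neg, Finset.sum_apply, map_sum] at h
    rw [h, neg_neg]
    exact Finset.sum_congr rfl fun u _ => congrFun (hρ u w) l
  have hwne : ∑ u : (P : Subgroup G), ρ u wb ≠ 0 := by
    rw [hsum]
    intro e
    have := congrFun e i
    rw [hvi, map_one, Pi.zero_apply, neg_eq_zero] at this
    exact one_ne_zero this
  obtain ⟨a, ha⟩ := exists_smul_of_fixed (p := p) (CharP.cast_eq_zero _ p) P.2 ρ hwne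
    (by rw [Module.finrank_fin_fun, Fintype.card_eq_nat_card]; exact hn)
    (f := fun l => r (f l)) fun u => by rw [hρ u f, hfG]
  rw [hsum] at ha
  -- the sum over the cosets kills `v` and multiplies `f` by the index
  obtain ⟨m, hm⟩ := hidx
  have hS : ∀ x : Fin n → localRing M, (fun l => r ((∑ q : G ⧸ H, T q.out).mulVec x l)) =
      (r.mapMatrix (∑ q : G ⧸ H, T q.out)).mulVec fun l => r (x l) := fun x => funext fun l => by
    simp only [Matrix.mulVec, dotProduct, map_sum r, map_mul r, RingHom.mapMatrix_apply,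
      Matrix.map_apply]
  have hSv : (∑ q : G ⧸ H, T q.out).mulVec v = 0 := by
    rw [Matrix.sum_mulVec]; exact hFsum
  have hSf : (∑ q : G ⧸ H, T q.out).mulVec f = (Nat.card (G ⧸ H) : localRing M) • f := by
    rw [Matrix.sum_mulVec]
    simp only [hfG, Finset.sum_const, Finset.card_univ, Nat.card_eq_fintype_card,
      ← Nat.cast_smul_eq_nsmul (localRing M)]
  have e1 := hS f
  have e2 := hS v
  rw [hSv] at e2
  rw [hSf, ha] at e1
  have e3 : (fun l => -r (v l)) = (-1 : Cfsg.AlgInt ⧸ M) • fun l => r (v l) := by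
    funext l; simp
  rw [e3, Matrix.mulVec_smul, Matrix.mulVec_smul, ← e2] at e1
  have := congrFun e1 i'
  simp only [Pi.smul_apply, smul_eq_mul, hfi, map_add, map_mul, map_natCast, map_one, mul_one,
    Pi.zero_apply, map_zero, mul_zero, hm, Nat.cast_add, Nat.cast_mul, Nat.cast_one,
    CharP.cast_eq_zero, zero_mul, add_zero] at this
  exact one_ne_zero this

end TI

end Cfsg.Agent.Lib.TIFixed.Basic
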