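import Cfsg.Agent.Lib.TIFixed.Basic
import Cfsg.Agent.Lib.Isometry.Inner

/-!
# Norms of characters of small degree restricted to the normaliser of a TI Sylow subgroup
-/

set_option autoImplicit false
set_option linter.style.haveILetI false

namespace Cfsg.Agent.Lib.TIFixed.Main

open scoped Pointwise ComplexConjugate
open Cfsg.Agent.Lib.Blocks

universe u

variable {G : Type u} [Group G] [Fintype G]

/-- A character is afforded by matrices over the local ring at a maximal ideal. -/
theorem exists_lattice {p : ℕ} {M : Ideal Cfsg.AlgInt} [M.IsMaximal] (hM : Cfsg.IsPModular p M)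
    {θ : G → ℂ} (hθ : Cfsg.IsCharacter G θ) :
    ∃ (n : ℕ) (T : G →* Matrix (Fin n) (Fin n) (localRing M)),
      θ 1 = n ∧ ∀ g, θ g = ((Matrix.trace (T g) : localRing M) : ℂ) := by
  classical
  obtain ⟨n, ρ, rfl⟩ := hθ
  obtain ⟨σ, ⟨eq⟩, hσ⟩ := Induced.SplittingField.exists_rep_cycl n ρ
  have halg : ∀ g i j, IsAlgebraic ℚ (LinearMap.toMatrix' (σ g) i j) := by
    intro g i j
    have hζ : IsIntegral ℚ (Complex.exp (2 * Real.pi * Complex.I / (Monoid.exponent G : ℂ))) :=
      IsIntegral.of_pow (Nat.pos_of_ne_zero Monoid.exponent_ne_zero_of_finite) (by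
        rw [(Complex.isPrimitiveRoot_exp _ Monoid.exponent_ne_zero_of_finite).pow_eq_one]
        exact isIntegral_one)
    exact (IsIntegral.of_mem_of_fg _ hζ.fg_adjoin_singleton _ (hσ g i j)).isAlgebraic
  obtain ⟨b, hb⟩ := FirstPower.SmallReduction.exists_lattice_basis hM σ halg
  let T : G →* Matrix (Fin n) (Fin n) (localRing M) :=
    { toFun := fun g => Matrix.of fun i j => ⟨LinearMap.toMatrix b b (σ g) i j, hb g i j⟩
      map_one' := by
        ext i j
        show LinearMap.toMatrix b b (σ 1) i j = _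
        rw [map_one, LinearMap.toMatrix_one, Matrix.one_apply, Matrix.one_apply]
        split_ifs <;> rfl
      map_mul' := fun g h => by
        ext i j
        show LinearMap.toMatrix b b (σ (g * h)) i j = _
        rw [map_mul, LinearMap.toMatrix_mul, Matrix.mul_apply, Matrix.mul_apply]
        simp [Matrix.of_apply] }
  refine ⟨n, T, by simp, fun g => ?_⟩
  rw [Induced.SplittingField.char_eq_of_equiv ρ σ eq.toLinearEquiv fun g v => by
    exact eq.toIntertwiningMap.isIntertwining _ _ g v]
  simp only [Representation.character]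
  rw [LinearMap.trace_eq_matrix_trace ℂ b, Matrix.trace, Matrix.trace]
  rw [AddSubmonoidClass.coe_finsetSum]
  rfl

/-- The norm does not change on restriction. -/
theorem classInner_restrict {p : ℕ} [Fact p.Prime] (P : Sylow p G)
    (hTI : ∀ g : G, g ∉ Subgroup.normalizer ((P : Subgroup G) : Set G) →
      (P : Subgroup G) ⊓ (MulAut.conj g • (P : Subgroup G)) = ⊥)
    {χ : G → ℂ} (hχ : Cfsg.IsCharacter G χ)
    (hdeg : Cfsg.charDegree χ ^ 2 ≤ Nat.card (P : Subgroup G))
    (H : Subgroup G) [Fintype H] (hH : Subgroup.normalizer ((P : Subgroup G) : Set G) ≤ H) :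
    Cfsg.classInner χ χ = Cfsg.classInner (fun h : H => χ h) (fun h : H => χ h) := by
  classical
  obtain ⟨M, hM⟩ := exists_isPModular p Fact.out
  haveI := hM.2.1
  obtain ⟨d, hd⟩ := Characters.Basic.exists_degree hχ
  obtain ⟨n, T, hn, hT⟩ := exists_lattice hM (Characters.Basic.isCharacter_mul hχ
    (Characters.Basic.isCharacter_conj hχ))
  have hnd : n = d ^ 2 := by
    simp only [Pi.mul_apply, hd, map_natCast] at hn
    rw [sq]
    exact_mod_cast hn.symm
  have hcd : Cfsg.charDegree χ = d := by
    rw [Cfsg.charDegree, hd, Complex.natCast_re, Nat.floor_natCast]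
  rw [hcd, ← hnd] at hdeg
  have hG : Cfsg.classInner χ χ =
      (Nat.card G : ℂ)⁻¹ * ((Matrix.trace (∑ g, T g) : localRing M) : ℂ) := by
    rw [Cfsg.classInner, Matrix.trace_sum, AddSubmonoidClass.coe_finsetSum]
    congr 1
    exact Finset.sum_congr rfl fun g _ => hT g
  have hH' : Cfsg.classInner (fun h : H => χ h) (fun h : H => χ h) =
      (Nat.card H : ℂ)⁻¹ * ((Matrix.trace (∑ h : H, T h) : localRing M) : ℂ) := by
    rw [Cfsg.classInner, Matrix.trace_sum, AddSubmonoidClass.coe_finsetSum]
    congr 1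
    exact Finset.sum_congr rfl fun g _ => hT g
  by_cases h0 : ∑ g, T g = 0
  · rw [h0, Matrix.trace_zero] at hG
    have : χ = 0 := Isometry.Inner.eq_zero_of_classInner_self (by simpa using hG)
    subst this
    simp [Cfsg.classInner]
  · have key := congrArg (fun z => ((Matrix.trace z : localRing M) : ℂ))
      (Basic.card_smul_sum_eq hTI hH hM T hdeg h0)
    simp only [Matrix.trace_smul, smul_eq_mul, Subring.coe_mul, Subring.coe_natCast] at key
    rw [hG, hH']
    have a1 : (Nat.card G : ℂ) ≠ 0 := Nat.cast_ne_zero.2 Nat.card_pos.ne'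
    have a2 : (Nat.card H : ℂ) ≠ 0 := Nat.cast_ne_zero.2 Nat.card_pos.ne'
    rw [inv_mul_eq_iff_eq_mul₀ a1, mul_left_comm, eq_inv_mul_iff_mul_eq₀ a2]
    exact key.symm

end Cfsg.Agent.Lib.TIFixed.Main
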